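import Mathlib
import Groth.Agent.SmoothGrpTors.EtalePow

/-! Sections of group schemes killed by an invertible integer agree once they agree at a closed point. -/

universe u

open CategoryTheory CategoryTheory.Limits MonoidalCategory CartesianMonoidalCategory AlgebraicGeometry MonObj

namespace Groth.Agent.NeronGrp

theorem ext_of_formallyUnramified {W X S : Scheme.{u}} (f : X ⟶ S) [FormallyUnramified f] [LocallyOfFiniteType f]
    (s₁ s₂ : W ⟶ X) (h : s₁ ≫ f = s₂ ≫ f) (c : W) (hc : ∀ U : W.Opens, c ∈ U → U = ⊤)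
    (K : Type u) [Field K] (k : Spec (CommRingCat.of K) ⟶ W) (hk : k (IsLocalRing.closedPoint K) = c)
    (heq : k ≫ s₁ = k ≫ s₂) : s₁ = s₂ := by
  let p : W ⟶ pullback f f := pullback.lift s₁ s₂ h
  let q : pullback p (pullback.diagonal f) ⟶ W := pullback.fst p (pullback.diagonal f)
  have : IsOpenImmersion q := MorphismProperty.pullback_fst p (pullback.diagonal f) inferInstance
  let k' : Spec (CommRingCat.of K) ⟶ pullback p (pullback.diagonal f) := pullback.lift k (k ≫ s₁) (by
    apply pullback.hom_ext
    · simp only [p, Category.assoc, pullback.diagonal_fst, Category.comp_id]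
      exact congrArg (k ≫ ·) (pullback.lift_fst s₁ s₂ h)
    · simp only [p, Category.assoc, pullback.diagonal_snd, Category.comp_id]
      exact (congrArg (k ≫ ·) (pullback.lift_snd s₁ s₂ h)).trans heq.symm)
  have hcq : c ∈ q.opensRange := by
    refine ⟨k' (IsLocalRing.closedPoint K), ?_⟩
    exact ((Scheme.Hom.comp_apply k' q _).symm.trans (congrArg (fun g : Spec (CommRingCat.of K) ⟶ W =>
      g (IsLocalRing.closedPoint K)) (pullback.lift_fst _ _ _))).trans hk
  have hsur : Surjective q := by
    refine ⟨fun w => ?_⟩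
    have hw : w ∈ q.opensRange := by rw [hc _ hcq]; trivial
    exact hw
  have : IsIso q := (isIso_iff_isOpenImmersion_and_epi_base q).2
    ⟨inferInstance, (TopCat.epi_iff_surjective _).2 q.surjective⟩
  refine (cancel_epi q).1 ?_
  have e₁ := congrArg (· ≫ pullback.fst f f) (pullback.condition (f := p) (g := pullback.diagonal f))
  have e₂ := congrArg (· ≫ pullback.snd f f) (pullback.condition (f := p) (g := pullback.diagonal f))
  simp only [p, q, Category.assoc, pullback.lift_fst, pullback.lift_snd, pullback.diagonal_fst,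
    pullback.diagonal_snd, Category.comp_id] at e₁ e₂
  exact e₁.trans e₂.symm

theorem eq_of_pow_eq_one {S : Scheme.{u}} {X : Over S} [GrpObj X] [IsCommMonObj X] [Smooth X.hom]
    (m : ℕ) (hm : IsUnit (m : Γ(S, ⊤))) {T : Over S} (x y : T ⟶ X) (hx : x ^ m = 1) (hy : y ^ m = 1)
    (c : T.left) (hc : ∀ U : T.left.Opens, c ∈ U → U = ⊤)
    (K : Type u) [Field K] (k : Spec (CommRingCat.of K) ⟶ T.left) (hk : k (IsLocalRing.closedPoint K) = c)
    (heq : k ≫ x.left = k ≫ y.left) : x = y := by
  let φ : X ⟶ X := 𝟙 X ^ m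
  have : Etale φ.left := Groth.Agent.SmoothGrpTors.etale_pow m hm
  have hpow : ∀ z : T ⟶ X, z ≫ φ = z ^ m := fun z => by rw [MonObj.comp_pow, Category.comp_id]
  ext
  refine ext_of_formallyUnramified φ.left x.left y.left ?_ c hc K k hk heq
  rw [← Over.comp_left, ← Over.comp_left, hpow, hpow, hx, hy]

end Groth.Agent.NeronGrp
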