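import Mathlib

/-! Transfer of group structures from the generic fibre of a Neron model. -/

universe u

open CategoryTheory CategoryTheory.Limits MonoidalCategory CartesianMonoidalCategory AlgebraicGeometry MonObj

namespace Groth.Agent.NeronGrp

theorem exists_grpObj {S S' : Scheme.{u}} (j : S' ⟶ S) (A : Over S') [GrpObj A]
    (N : Over S) (e : (Over.pullback j).obj N ≅ A) (hsm : Smooth N.hom)
    (hext : ∀ Y : Over S, Smooth Y.hom →
      Function.Bijective (fun g : Y ⟶ N => (Over.pullback j).map g ≫ e.hom)) :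
    ∃ G : GrpObj N,
      (∀ (Y : Over S) (a b : Y ⟶ N), (Over.pullback j).map (lift a b ≫ μ[N]) ≫ e.hom =
        ((Over.pullback j).map a ≫ e.hom) * ((Over.pullback j).map b ≫ e.hom)) ∧
      (∀ Y : Over S, (Over.pullback j).map (toUnit Y ≫ η[N]) ≫ e.hom = 1) ∧
      (IsCommMonObj A → IsCommMonObj N) := by
  haveI := hsm
  let F := Over.pullback j
  let r : ∀ {Y : Over S}, (Y ⟶ N) → (F.obj Y ⟶ A) := fun g => F.map g ≫ e.hom
  have rcomp : ∀ {Y Z : Over S} (a : Y ⟶ Z) (g : Z ⟶ N), r (a ≫ g) = F.map a ≫ r g :=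
    fun a g => by simp [r]
  have h1 : Smooth (𝟙_ (Over S)).hom :=
    inferInstanceAs (Smooth (𝟙 S))
  have hprod : ∀ X Y : Over S, Smooth X.hom → Smooth Y.hom → Smooth (X ⊗ Y).hom := by
    intro X Y hX hY
    exact inferInstanceAs (Smooth (pullback.fst X.hom Y.hom ≫ X.hom))
  obtain ⟨m, hm⟩ := (hext (N ⊗ N) (hprod _ _ hsm hsm)).2 (r (fst N N) * r (snd N N))
  obtain ⟨o, ho⟩ := (hext (𝟙_ _) h1).2 1
  obtain ⟨i, hi⟩ := (hext N hsm).2 (r (𝟙 N))⁻¹
  replace hm : r m = r (fst N N) * r (snd N N) := hm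
  replace ho : r o = 1 := ho
  replace hi : r i = (r (𝟙 N))⁻¹ := hi
  have hmul : ∀ {Y : Over S} (a b : Y ⟶ N), r (lift a b ≫ m) = r a * r b := by
    intro Y a b
    rw [rcomp, hm, MonObj.comp_mul, ← rcomp, ← rcomp, lift_fst, lift_snd]
  have hone : ∀ {Y : Over S}, r (toUnit Y ≫ o) = 1 := fun {Y} => by
    rw [rcomp, ho, MonObj.comp_one]
  have hinv : ∀ {Y : Over S} (a : Y ⟶ N), r (a ≫ i) = (r a)⁻¹ := by
    intro Y a
    rw [rcomp, hi, GrpObj.comp_inv, ← rcomp, Category.comp_id]
  have hinj : ∀ {Y : Over S} (_ : Smooth Y.hom) (a b : Y ⟶ N), r a = r b → a = b :=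
    fun hY a b h => (hext _ hY).1 h
  refine ⟨{ one := o, mul := m, inv := i, one_mul := ?_, mul_one := ?_, mul_assoc := ?_, left_inv := ?_, right_inv := ?_ },
    fun Y a b => hmul a b, fun Y => hone, fun hA => ?_⟩
  · refine hinj (hprod _ _ h1 hsm) _ _ ?_
    rw [show o ▷ N = lift (toUnit (𝟙_ _ ⊗ N) ≫ o) (snd _ _) by
      apply CartesianMonoidalCategory.hom_ext <;> simp [toUnit_unique (fst (𝟙_ _) N) (toUnit _)],
      hmul, hone, _root_.one_mul, leftUnitor_hom]
  · refine hinj (hprod _ _ hsm h1) _ _ ?_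
    rw [show N ◁ o = lift (fst _ _) (toUnit (N ⊗ 𝟙_ _) ≫ o) by
      apply CartesianMonoidalCategory.hom_ext <;> simp [toUnit_unique (snd N (𝟙_ _)) (toUnit _)],
      hmul, hone, _root_.mul_one, rightUnitor_hom]
  · refine hinj (hprod _ _ (hprod _ _ hsm hsm) hsm) _ _ ?_
    rw [show m ▷ N = lift (lift (fst _ _ ≫ fst N N) (fst _ _ ≫ snd N N) ≫ m) (snd _ _) by
        apply CartesianMonoidalCategory.hom_ext
        · simp [← comp_lift, lift_fst_snd]
        · simp,
      hmul, hmul]
    rw [← Category.assoc, show (α_ N N N).hom ≫ (N ◁ m) = lift (fst _ _ ≫ fst N N) (lift (fst _ _ ≫ snd N N) (snd _ _) ≫ m) by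
        apply CartesianMonoidalCategory.hom_ext
        · simp
        · rw [Category.assoc, whiskerLeft_snd, lift_snd, ← Category.assoc]
          congr 1
          apply CartesianMonoidalCategory.hom_ext <;> simp,
      hmul, hmul, _root_.mul_assoc]
  · exact hinj hsm _ _ (by rw [hmul, hone, hi, inv_mul_cancel])
  · exact hinj hsm _ _ (by rw [hmul, hone, hi, _root_.mul_inv_cancel])
  · haveI := hA
    refine @IsCommMonObj.mk _ _ _ _ N (_) ?_
    refine hinj (hprod _ _ hsm hsm) _ _ ?_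
    show r ((β_ N N).hom ≫ m) = r m
    rw [show (β_ N N).hom = lift (snd N N) (fst N N) by apply CartesianMonoidalCategory.hom_ext <;> simp,
      hmul, hm, mul_comm]

theorem bijective_pullback_of_isIso {X Y Z : Scheme.{u}} (i : X ⟶ Y) [IsIso i] (g : Y ⟶ Z) (f : X ⟶ Z)
    (hf : i ≫ g = f) (P Q : Over Z)
    (h : Function.Bijective (fun a : P ⟶ Q => (Over.pullback g).map a)) :
    Function.Bijective (fun a : P ⟶ Q => (Over.pullback f).map a) := by
  subst hf
  have : (Over.pullback i).IsEquivalence := (Over.mapPullbackAdj i).isEquivalence_right_of_isEquivalence_left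
  have h' : Function.Bijective (fun a : P ⟶ Q => (Over.pullback g ⋙ Over.pullback i).map a) :=
    ((Functor.FullyFaithful.ofFullyFaithful (Over.pullback i)).homEquiv.bijective).comp h
  have hh : (fun a : P ⟶ Q => (Over.pullback (i ≫ g)).map a) =
      fun a => (Over.pullbackComp i g).hom.app P ≫ (Over.pullback g ⋙ Over.pullback i).map a ≫
        (Over.pullbackComp i g).inv.app Q := by
    ext1 a
    rw [← Category.assoc, ← (Over.pullbackComp i g).hom.naturality, Category.assoc, Iso.hom_inv_id_app,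
      Category.comp_id]
  rw [hh]
  exact (((Over.pullbackComp i g).app P).symm.homCongr ((Over.pullbackComp i g).app Q).symm).bijective.comp h'

end Groth.Agent.NeronGrp
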